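import Mathlib

set_option autoImplicit false

namespace Cfsg.Agent.Lib.Helper18.A5Pres

variable {P : Type*} [Group P]

theorem L3 (a : P) (ha : a ^ 3 = 1) (X Y Z h1 h2 : P) (e1 : a * X = Y * h1)
    (e2 : a * Y = Z * h2) : a * Z = X * (h2 * h1)⁻¹ := by
  have h3 : a * (a * (a * X)) = X := by
    have : a * (a * (a * X)) = a ^ 3 * X := by
      rw [pow_succ, pow_two]; simp only [mul_assoc]
    rw [this, ha, one_mul]
  have h4 : a * Z * (h2 * h1) = X := by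
    rw [← h3, e1, ← mul_assoc a Y h1, e2]; simp only [mul_assoc]
  exact eq_mul_inv_of_mul_eq h4

theorem L5 (b : P) (hb : b ^ 5 = 1) (X1 X2 X3 X4 X5 h1 h2 h3 h4 : P) (e1 : b * X1 = X2 * h1)
    (e2 : b * X2 = X3 * h2) (e3 : b * X3 = X4 * h3) (e4 : b * X4 = X5 * h4) :
    b * X5 = X1 * (h4 * h3 * h2 * h1)⁻¹ := by
  have h5 : b * (b * (b * (b * (b * X1)))) = X1 := by
    have : b * (b * (b * (b * (b * X1)))) = b ^ 5 * X1 := by
      rw [pow_succ, pow_succ, pow_succ, pow_two]; simp only [mul_assoc]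
    rw [this, hb, one_mul]
  have h6 : b * X5 * (h4 * h3 * h2 * h1) = X1 := by
    rw [← h5, e1, ← mul_assoc b X2 h1, e2, ← mul_assoc b (X3 * h2) h1, ← mul_assoc b X3 h2, e3,
      ← mul_assoc b (X4 * h3 * h2) h1, ← mul_assoc b (X4 * h3) h2, ← mul_assoc b X4 h3, e4]
    simp only [mul_assoc]
  exact eq_mul_inv_of_mul_eq h6

theorem L4 (a b : P) (hab : a * (b * (a * (b * 1))) = 1) (X1 X2 X3 X4 h1 h2 h3 : P)
    (e1 : b * X1 = X2 * h1) (e2 : a * X2 = X3 * h2) (e3 : b * X3 = X4 * h3) :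
    a * X4 = X1 * (h3 * h2 * h1)⁻¹ := by
  have h5 : a * (b * (a * (b * X1))) = X1 := by
    have : a * (b * (a * (b * X1))) = a * (b * (a * (b * 1))) * X1 := by
      simp only [mul_assoc, mul_one]
    rw [this, hab, one_mul]
  have h6 : a * X4 * (h3 * h2 * h1) = X1 := by
    rw [← h5, e1, ← mul_assoc a X2 h1, e2, ← mul_assoc b (X3 * h2) h1, ← mul_assoc b X3 h2, e3]
    simp only [mul_assoc]
  exact eq_mul_inv_of_mul_eq h6

/-- Coset enumeration over `⟨b⟩` (12 cosets): a group generated by `a`, `b` with `a ^ 3 = 1`,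
`b ^ 5 = 1`, `(a * b) ^ 2 = 1` has at most 60 elements. -/
theorem card_le_sixty (a b : P) (ha : a ^ 3 = 1) (hb : b ^ 5 = 1) (hab : (a * b) ^ 2 = 1)
    (hgen : Subgroup.closure ({a, b} : Set P) = ⊤) : Finite P ∧ Nat.card P ≤ 60 := by
  have hab1 : a * (b * (a * (b * 1))) = 1 := by
    rw [mul_one, ← mul_assoc, ← pow_two]; exact hab
  have hba1 : b * (a * (b * (a * 1))) = 1 := by
    have h1 : a * (b * (a * b)) = 1 := by rw [← mul_assoc, ← pow_two]; exact hab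
    have h2 : b * (a * b) = a⁻¹ := eq_inv_of_mul_eq_one_right h1
    rw [mul_one, ← mul_assoc b a, ← mul_assoc, mul_assoc b a b, h2, inv_mul_cancel]
  have hpow : ∀ n : ℕ, n % 5 = 0 → b ^ n = 1 := by
    intro n hn
    obtain ⟨d, rfl⟩ := Nat.dvd_of_mod_eq_zero hn
    rw [pow_mul, hb, one_pow]
  obtain ⟨W0, hW0⟩ : ∃ w : P, w = 1 := ⟨_, rfl⟩
  obtain ⟨W1, hW1⟩ : ∃ w : P, w = a * W0 := ⟨_, rfl⟩
  obtain ⟨W2, hW2⟩ : ∃ w : P, w = a * W1 := ⟨_, rfl⟩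
  obtain ⟨W3, hW3⟩ : ∃ w : P, w = b * W2 := ⟨_, rfl⟩
  obtain ⟨W4, hW4⟩ : ∃ w : P, w = a * W3 := ⟨_, rfl⟩
  obtain ⟨W5, hW5⟩ : ∃ w : P, w = b * W3 := ⟨_, rfl⟩
  obtain ⟨W6, hW6⟩ : ∃ w : P, w = a * W4 := ⟨_, rfl⟩
  obtain ⟨W7, hW7⟩ : ∃ w : P, w = a * W5 := ⟨_, rfl⟩
  obtain ⟨W8, hW8⟩ : ∃ w : P, w = b * W6 := ⟨_, rfl⟩
  obtain ⟨W9, hW9⟩ : ∃ w : P, w = b * W8 := ⟨_, rfl⟩
  obtain ⟨W10, hW10⟩ : ∃ w : P, w = a * W9 := ⟨_, rfl⟩
  obtain ⟨W11, hW11⟩ : ∃ w : P, w = a * W10 := ⟨_, rfl⟩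
  have Ea0 : a * W0 = W1 * b ^ 0 := by rw [hW1, pow_zero, mul_one]
  have Ea1 : a * W1 = W2 * b ^ 0 := by rw [hW2, pow_zero, mul_one]
  have Eb2 : b * W2 = W3 * b ^ 0 := by rw [hW3, pow_zero, mul_one]
  have Ea3 : a * W3 = W4 * b ^ 0 := by rw [hW4, pow_zero, mul_one]
  have Eb3 : b * W3 = W5 * b ^ 0 := by rw [hW5, pow_zero, mul_one]
  have Ea4 : a * W4 = W6 * b ^ 0 := by rw [hW6, pow_zero, mul_one]
  have Ea5 : a * W5 = W7 * b ^ 0 := by rw [hW7, pow_zero, mul_one]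
  have Eb6 : b * W6 = W8 * b ^ 0 := by rw [hW8, pow_zero, mul_one]
  have Eb8 : b * W8 = W9 * b ^ 0 := by rw [hW9, pow_zero, mul_one]
  have Ea9 : a * W9 = W10 * b ^ 0 := by rw [hW10, pow_zero, mul_one]
  have Ea10 : a * W10 = W11 * b ^ 0 := by rw [hW11, pow_zero, mul_one]
  have Eb0 : b * W0 = W0 * b ^ 1 := by rw [hW0, pow_one, mul_one, one_mul]
  have Ea2 : a * W2 = W0 * b ^ 0 := by
    have h := L3 a ha W0 W1 W2 (b ^ 0) (b ^ 0) Ea0 Ea1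
    have hi : (b ^ 0 * b ^ 0)⁻¹ = b ^ 0 := inv_eq_of_mul_eq_one_right (by
      simp only [← pow_add]; exact hpow _ (by norm_num))
    rw [hi] at h; exact h
  have Ea6 : a * W6 = W3 * b ^ 0 := by
    have h := L3 a ha W3 W4 W6 (b ^ 0) (b ^ 0) Ea3 Ea4
    have hi : (b ^ 0 * b ^ 0)⁻¹ = b ^ 0 := inv_eq_of_mul_eq_one_right (by
      simp only [← pow_add]; exact hpow _ (by norm_num))
    rw [hi] at h; exact h
  have Ea11 : a * W11 = W9 * b ^ 0 := by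
    have h := L3 a ha W9 W10 W11 (b ^ 0) (b ^ 0) Ea9 Ea10
    have hi : (b ^ 0 * b ^ 0)⁻¹ = b ^ 0 := inv_eq_of_mul_eq_one_right (by
      simp only [← pow_add]; exact hpow _ (by norm_num))
    rw [hi] at h; exact h
  have Eb4 : b * W4 = W1 * b ^ 0 := by
    have h := L4 b a hba1 W1 W2 W3 W4 (b ^ 0) (b ^ 0) (b ^ 0) Ea1 Eb2 Ea3
    have hi : (b ^ 0 * b ^ 0 * b ^ 0)⁻¹ = b ^ 0 := inv_eq_of_mul_eq_one_right (by
      simp only [← pow_add]; exact hpow _ (by norm_num))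
    rw [hi] at h; exact h
  have Eb1 : b * W1 = W2 * b ^ 4 := by
    have h := L4 b a hba1 W2 W0 W0 W1 (b ^ 0) (b ^ 1) (b ^ 0) Ea2 Eb0 Ea0
    have hi : (b ^ 0 * b ^ 1 * b ^ 0)⁻¹ = b ^ 4 := inv_eq_of_mul_eq_one_right (by
      simp only [← pow_add]; exact hpow _ (by norm_num))
    rw [hi] at h; exact h
  have Eb7 : b * W7 = W6 * b ^ 0 := by
    have h := L4 b a hba1 W6 W3 W5 W7 (b ^ 0) (b ^ 0) (b ^ 0) Ea6 Eb3 Ea5
    have hi : (b ^ 0 * b ^ 0 * b ^ 0)⁻¹ = b ^ 0 := inv_eq_of_mul_eq_one_right (by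
      simp only [← pow_add]; exact hpow _ (by norm_num))
    rw [hi] at h; exact h
  have Eb5 : b * W5 = W4 * b ^ 1 := by
    have h := L5 b hb W4 W1 W2 W3 W5 (b ^ 0) (b ^ 4) (b ^ 0) (b ^ 0) Eb4 Eb1 Eb2 Eb3
    have hi : (b ^ 0 * b ^ 0 * b ^ 4 * b ^ 0)⁻¹ = b ^ 1 := inv_eq_of_mul_eq_one_right (by
      simp only [← pow_add]; exact hpow _ (by norm_num))
    rw [hi] at h; exact h
  have Ea8 : a * W8 = W5 * b ^ 4 := by
    have h := L4 a b hab1 W5 W4 W6 W8 (b ^ 1) (b ^ 0) (b ^ 0) Eb5 Ea4 Eb6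
    have hi : (b ^ 0 * b ^ 0 * b ^ 1)⁻¹ = b ^ 4 := inv_eq_of_mul_eq_one_right (by
      simp only [← pow_add]; exact hpow _ (by norm_num))
    rw [hi] at h; exact h
  have Ea7 : a * W7 = W8 * b ^ 1 := by
    have h := L3 a ha W8 W5 W7 (b ^ 4) (b ^ 0) Ea8 Ea5
    have hi : (b ^ 0 * b ^ 4)⁻¹ = b ^ 1 := inv_eq_of_mul_eq_one_right (by
      simp only [← pow_add]; exact hpow _ (by norm_num))
    rw [hi] at h; exact h
  have Eb10 : b * W10 = W7 * b ^ 4 := by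
    have h := L4 b a hba1 W7 W8 W9 W10 (b ^ 1) (b ^ 0) (b ^ 0) Ea7 Eb8 Ea9
    have hi : (b ^ 0 * b ^ 0 * b ^ 1)⁻¹ = b ^ 4 := inv_eq_of_mul_eq_one_right (by
      simp only [← pow_add]; exact hpow _ (by norm_num))
    rw [hi] at h; exact h
  have Eb9 : b * W9 = W10 * b ^ 1 := by
    have h := L5 b hb W10 W7 W6 W8 W9 (b ^ 4) (b ^ 0) (b ^ 0) (b ^ 0) Eb10 Eb7 Eb6 Eb8
    have hi : (b ^ 0 * b ^ 0 * b ^ 0 * b ^ 4)⁻¹ = b ^ 1 := inv_eq_of_mul_eq_one_right (by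
      simp only [← pow_add]; exact hpow _ (by norm_num))
    rw [hi] at h; exact h
  have Eb11 : b * W11 = W11 * b ^ 4 := by
    have h := L4 b a hba1 W11 W9 W10 W11 (b ^ 0) (b ^ 1) (b ^ 0) Ea11 Eb9 Ea10
    have hi : (b ^ 0 * b ^ 1 * b ^ 0)⁻¹ = b ^ 4 := inv_eq_of_mul_eq_one_right (by
      simp only [← pow_add]; exact hpow _ (by norm_num))
    rw [hi] at h; exact h
  obtain ⟨W, hW⟩ : ∃ W : Fin 12 → P, W = ![W0, W1, W2, W3, W4, W5, W6, W7, W8, W9, W10, W11] := ⟨_, rfl⟩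
  have hA : ∀ i : Fin 12, ∃ (j : Fin 12) (e : ℕ), a * W i = W j * b ^ e := by
    intro i
    rw [hW]
    fin_cases i
    · exact ⟨1, 0, Ea0⟩
    · exact ⟨2, 0, Ea1⟩
    · exact ⟨0, 0, Ea2⟩
    · exact ⟨4, 0, Ea3⟩
    · exact ⟨6, 0, Ea4⟩
    · exact ⟨7, 0, Ea5⟩
    · exact ⟨3, 0, Ea6⟩
    · exact ⟨8, 1, Ea7⟩
    · exact ⟨5, 4, Ea8⟩
    · exact ⟨10, 0, Ea9⟩
    · exact ⟨11, 0, Ea10⟩
    · exact ⟨9, 0, Ea11⟩
  have hB : ∀ i : Fin 12, ∃ (j : Fin 12) (e : ℕ), b * W i = W j * b ^ e := by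
    intro i
    rw [hW]
    fin_cases i
    · exact ⟨0, 1, Eb0⟩
    · exact ⟨2, 4, Eb1⟩
    · exact ⟨3, 0, Eb2⟩
    · exact ⟨5, 0, Eb3⟩
    · exact ⟨1, 0, Eb4⟩
    · exact ⟨4, 1, Eb5⟩
    · exact ⟨8, 0, Eb6⟩
    · exact ⟨6, 0, Eb7⟩
    · exact ⟨9, 0, Eb8⟩
    · exact ⟨10, 1, Eb9⟩
    · exact ⟨7, 4, Eb10⟩
    · exact ⟨11, 4, Eb11⟩
  have hA' : ∀ (i : Fin 12) (k : ℕ), ∃ (j : Fin 12) (l : ℕ), a * (W i * b ^ k) = W j * b ^ l := by
    intro i k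
    obtain ⟨j, e, h⟩ := hA i
    exact ⟨j, e + k, by rw [← mul_assoc, h, mul_assoc, ← pow_add]⟩
  have hB' : ∀ (i : Fin 12) (k : ℕ), ∃ (j : Fin 12) (l : ℕ), b * (W i * b ^ k) = W j * b ^ l := by
    intro i k
    obtain ⟨j, e, h⟩ := hB i
    exact ⟨j, e + k, by rw [← mul_assoc, h, mul_assoc, ← pow_add]⟩
  have hainv : a⁻¹ = a * a := by
    apply inv_eq_of_mul_eq_one_right
    rw [← mul_assoc, ← pow_two, ← pow_succ]; exact ha
  have hbinv : b⁻¹ = b * (b * (b * b)) := by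
    apply inv_eq_of_mul_eq_one_right
    have : b * (b * (b * (b * b))) = b ^ 5 := by
      rw [pow_succ, pow_succ, pow_succ, pow_two]; simp only [mul_assoc]
    rw [this]; exact hb
  have hmem : ∀ w ∈ Subgroup.closure ({a, b} : Set P), ∀ (i : Fin 12) (k : ℕ),
      ∃ (j : Fin 12) (l : ℕ), w * (W i * b ^ k) = W j * b ^ l := by
    intro w hw
    induction hw using Subgroup.closure_induction'' with
    | mem x hx =>
      intro i k
      rcases hx with rfl | hx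
      · exact hA' i k
      · rw [Set.mem_singleton_iff] at hx
        rw [hx]; exact hB' i k
    | inv_mem x hx =>
      intro i k
      rcases hx with rfl | hx
      · rw [hainv]
        obtain ⟨j1, l1, h1⟩ := hA' i k
        obtain ⟨j2, l2, h2⟩ := hA' j1 l1
        exact ⟨j2, l2, by rw [mul_assoc, h1, h2]⟩
      · rw [Set.mem_singleton_iff] at hx
        rw [hx, hbinv]
        obtain ⟨j1, l1, h1⟩ := hB' i k
        obtain ⟨j2, l2, h2⟩ := hB' j1 l1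
        obtain ⟨j3, l3, h3⟩ := hB' j2 l2
        obtain ⟨j4, l4, h4⟩ := hB' j3 l3
        exact ⟨j4, l4, by rw [mul_assoc, mul_assoc, mul_assoc, h1, h2, h3, h4]⟩
    | one =>
      intro i k
      exact ⟨i, k, one_mul _⟩
    | mul x y _ _ hx hy =>
      intro i k
      obtain ⟨j1, l1, h1⟩ := hy i k
      obtain ⟨j2, l2, h2⟩ := hx j1 l1
      exact ⟨j2, l2, by rw [mul_assoc, h1, h2]⟩
  have hsurj : Function.Surjective (fun q : Fin 12 × Fin 5 => W q.1 * b ^ (q.2 : ℕ)) := by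
    intro w
    have hw : w ∈ Subgroup.closure ({a, b} : Set P) := by rw [hgen]; exact Subgroup.mem_top w
    obtain ⟨j, l, h⟩ := hmem w hw 0 0
    have h0 : W 0 = 1 := by rw [hW, hW0]; rfl
    rw [h0, pow_zero, mul_one, mul_one] at h
    refine ⟨(j, ⟨l % 5, Nat.mod_lt _ (by norm_num)⟩), ?_⟩
    rw [h]
    show W j * b ^ (l % 5) = W j * b ^ l
    congr 1
    conv_rhs => rw [← Nat.div_add_mod l 5]
    rw [pow_add, pow_mul, hb, one_pow, one_mul]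
  have hfin : Finite P := Finite.of_surjective _ hsurj
  refine ⟨hfin, ?_⟩
  have h1 := Nat.card_le_card_of_surjective _ hsurj
  rw [Nat.card_prod, Nat.card_fin, Nat.card_fin] at h1
  exact h1

end Cfsg.Agent.Lib.Helper18.A5Pres
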