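import Mathlib

set_option autoImplicit false

namespace Cfsg.Agent.Lib.Helper18.QuatHom

/-- Elements `x, y` of a group satisfying the generalized quaternion relations define a
homomorphism from `QuaternionGroup m`. -/
theorem exists_quat_hom {G : Type*} [Group G] (m : ℕ) (hm : m ≠ 0) (x y : G)
    (hx : x ^ (2 * m) = 1) (hy : y ^ 2 = x ^ m) (hyx : y * x * y⁻¹ = x⁻¹) :
    ∃ f : QuaternionGroup m →* G, f (QuaternionGroup.a 1) = x ∧ f (QuaternionGroup.xa 0) = y ∧
      (∀ i, f (QuaternionGroup.a i) = x ^ i.val) ∧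
      (∀ i, f (QuaternionGroup.xa i) = y * x ^ i.val) := by
  have : NeZero m := ⟨hm⟩
  have : NeZero (2 * m) := ⟨by omega⟩
  obtain ⟨e, hedef⟩ : ∃ e : ZMod (2 * m) → G, ∀ i, e i = x ^ i.val := ⟨fun i => x ^ i.val, fun _ => rfl⟩
  have he_nat : ∀ k : ℕ, e (k : ZMod (2 * m)) = x ^ k := by
    intro k
    rw [hedef, ZMod.val_natCast, ← pow_eq_pow_mod k hx]
  have he_add : ∀ i j, e (i + j) = e i * e j := by
    intro i j
    have h1 : i + j = ((i.val + j.val : ℕ) : ZMod (2 * m)) := by simp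
    rw [h1, he_nat, pow_add, hedef, hedef]
  have he_zero : e 0 = 1 := by
    rw [hedef]
    simp
  have he_neg : ∀ i, e (-i) = (e i)⁻¹ := by
    intro i
    rw [eq_inv_iff_mul_eq_one, ← he_add, neg_add_cancel, he_zero]
  have he_sub : ∀ i j, e (i - j) = e i * (e j)⁻¹ := by
    intro i j
    rw [sub_eq_add_neg, he_add, he_neg]
  have he_m : e (m : ZMod (2 * m)) = x ^ m := he_nat m
  have he_one : e 1 = x := by
    have h1 := he_nat 1
    rw [Nat.cast_one, pow_one] at h1
    exact h1
  have hcomm_e : ∀ i j, e i * e j = e j * e i := by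
    intro i j
    rw [hedef, hedef]
    exact ((Commute.refl x).pow_pow _ _).eq
  have hcomm_e' : ∀ i j, (e i)⁻¹ * e j = e j * (e i)⁻¹ := by
    intro i j
    rw [← he_neg]
    exact hcomm_e _ _
  have h0 : y * x⁻¹ * y⁻¹ = x := by
    calc y * x⁻¹ * y⁻¹ = (y * x * y⁻¹)⁻¹ := by group
      _ = x := by rw [hyx, inv_inv]
  have hy_e : ∀ i, e i * y = y * (e i)⁻¹ := by
    intro i
    rw [hedef]
    have h2 : y * (x⁻¹) ^ i.val * y⁻¹ = x ^ i.val := by rw [← conj_pow, h0]
    calc x ^ i.val * y = (y * (x⁻¹) ^ i.val * y⁻¹) * y := by rw [h2]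
      _ = y * (x ^ i.val)⁻¹ := by
        rw [inv_pow]
        group
  let f : QuaternionGroup m → G := fun q =>
    match q with
    | QuaternionGroup.a i => e i
    | QuaternionGroup.xa i => y * e i
  have hf_a : ∀ i, f (QuaternionGroup.a i) = e i := fun _ => rfl
  have hf_xa : ∀ i, f (QuaternionGroup.xa i) = y * e i := fun _ => rfl
  have hmul : ∀ q₁ q₂ : QuaternionGroup m, f (q₁ * q₂) = f q₁ * f q₂ := by
    intro q₁ q₂
    rcases q₁ with i | i <;> rcases q₂ with j | j
    · rw [QuaternionGroup.a_mul_a, hf_a, hf_a, hf_a, he_add]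
    · rw [QuaternionGroup.a_mul_xa, hf_a, hf_xa, hf_xa, he_sub, ← mul_assoc (e i), hy_e,
        mul_assoc, hcomm_e']
    · rw [QuaternionGroup.xa_mul_a, hf_a, hf_xa, hf_xa, he_add, mul_assoc]
    · rw [QuaternionGroup.xa_mul_xa, hf_a, hf_xa, hf_xa, he_sub, he_add, he_m]
      calc x ^ m * e j * (e i)⁻¹ = y ^ 2 * ((e i)⁻¹ * e j) := by
            rw [hy, mul_assoc, hcomm_e']
        _ = y * (y * (e i)⁻¹) * e j := by
            rw [pow_two]
            group
        _ = y * e i * (y * e j) := by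
            rw [← hy_e]
            group
  refine ⟨MonoidHom.mk' f hmul, ?_, ?_, ?_, ?_⟩
  · show f (QuaternionGroup.a 1) = x
    rw [hf_a, he_one]
  · show f (QuaternionGroup.xa 0) = y
    rw [hf_xa, he_zero, mul_one]
  · intro i
    show f (QuaternionGroup.a i) = x ^ i.val
    rw [hf_a, hedef]
  · intro i
    show f (QuaternionGroup.xa i) = y * x ^ i.val
    rw [hf_xa, hedef]

/-- Two homomorphisms out of `QuaternionGroup m` that agree on the generators are equal. -/
theorem quat_hom_ext {H : Type*} [Group H] {m : ℕ} (hm : m ≠ 0) (f g : QuaternionGroup m →* H)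
    (h1 : f (QuaternionGroup.a 1) = g (QuaternionGroup.a 1))
    (h2 : f (QuaternionGroup.xa 0) = g (QuaternionGroup.xa 0)) : f = g := by
  have : NeZero (2 * m) := ⟨by omega⟩
  have ha : ∀ i : ZMod (2 * m), f (QuaternionGroup.a i) = g (QuaternionGroup.a i) := by
    intro i
    have h3 : QuaternionGroup.a i = (QuaternionGroup.a 1 : QuaternionGroup m) ^ i.val := by
      rw [QuaternionGroup.a_one_pow, ZMod.natCast_zmod_val]
    rw [h3, map_pow, map_pow, h1]
  ext q
  rcases q with i | i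
  · exact ha i
  · have h4 : QuaternionGroup.xa i = (QuaternionGroup.xa 0 : QuaternionGroup m) * QuaternionGroup.a i := by
      rw [QuaternionGroup.xa_mul_a, zero_add]
    rw [h4, map_mul, map_mul, h2, ha i]

end Cfsg.Agent.Lib.Helper18.QuatHom
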