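import Mathlib
import Cfsg.Agent.Lib.Helper18.A5Pres
import Cfsg.Agent.S2301

set_option autoImplicit false

namespace Cfsg.Agent.Lib.Helper18.SL25Pres

open Matrix

/-- The relators of the presentation `⟨x, y, z | x³ = y⁵ = z² = 1, [z, x] = [z, y] = 1,
(xy)² = z⟩` of `SL(2,5)`. -/
def rels : Set (FreeGroup (Fin 3)) :=
  {FreeGroup.of (0 : Fin 3) ^ 3, FreeGroup.of (1 : Fin 3) ^ 5, FreeGroup.of (2 : Fin 3) ^ 2,
    (FreeGroup.of (2 : Fin 3))⁻¹ * FreeGroup.of 0 * FreeGroup.of 2 * (FreeGroup.of (0 : Fin 3))⁻¹,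
    (FreeGroup.of (2 : Fin 3))⁻¹ * FreeGroup.of 1 * FreeGroup.of 2 * (FreeGroup.of (1 : Fin 3))⁻¹,
    (FreeGroup.of (0 : Fin 3) * FreeGroup.of 1) ^ 2 * (FreeGroup.of (2 : Fin 3))⁻¹}

/-- A group generated by `x, y, z` with `x³ = y⁵ = z² = 1`, `z` commuting with `x, y` and
`(xy)² = z` has at most 120 elements. -/
theorem card_le_120 {G : Type*} [Group G] (x y z : G) (hx : x ^ 3 = 1) (hy : y ^ 5 = 1)
    (hz : z ^ 2 = 1) (hzx : z * x = x * z) (hzy : z * y = y * z) (hxy : (x * y) ^ 2 = z)
    (hgen : Subgroup.closure ({x, y, z} : Set G) = ⊤) : Finite G ∧ Nat.card G ≤ 120 := by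
  have hzc : z ∈ Subgroup.center G := by
    have h1 : Subgroup.closure ({x, y, z} : Set G) ≤ Subgroup.centralizer ({z} : Set G) := by
      rw [Subgroup.closure_le]
      intro g hg
      rw [SetLike.mem_coe, Subgroup.mem_centralizer_iff]
      intro w hw
      rw [Set.mem_singleton_iff] at hw
      rw [hw]
      rcases hg with rfl | rfl | hg
      · exact hzx
      · exact hzy
      · rw [Set.mem_singleton_iff] at hg; rw [hg]
    rw [Subgroup.mem_center_iff]
    intro g
    have hg : g ∈ Subgroup.centralizer ({z} : Set G) :=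
      h1 (by rw [hgen]; exact Subgroup.mem_top g)
    rw [Subgroup.mem_centralizer_iff] at hg
    exact (hg z (Set.mem_singleton z)).symm
  obtain ⟨N, hN⟩ : ∃ N : Subgroup G, N = Subgroup.zpowers z := ⟨_, rfl⟩
  have hNle : N ≤ Subgroup.center G := by rw [hN, Subgroup.zpowers_le]; exact hzc
  have hNn : N.Normal := by
    constructor
    intro n hn g
    have := Subgroup.mem_center_iff.1 (hNle hn) g
    rw [this, mul_inv_cancel_right]; exact hn
  have hzN : z ∈ N := by rw [hN]; exact Subgroup.mem_zpowers z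
  have hcN : Nat.card N ≤ 2 ∧ Nat.card N ≠ 0 := by
    rw [hN, Nat.card_zpowers]
    have h1 : orderOf z ∣ 2 := orderOf_dvd_of_pow_eq_one hz
    have h2 := Nat.le_of_dvd (by norm_num) h1
    refine ⟨h2, fun h0 => ?_⟩
    rw [h0] at h1
    simp at h1
  have hfN : Finite N := Nat.finite_of_card_ne_zero hcN.2
  have ha : (QuotientGroup.mk x : G ⧸ N) ^ 3 = 1 := by rw [← QuotientGroup.mk_pow, hx]; rfl
  have hb : (QuotientGroup.mk y : G ⧸ N) ^ 5 = 1 := by rw [← QuotientGroup.mk_pow, hy]; rfl
  have hab : ((QuotientGroup.mk x : G ⧸ N) * QuotientGroup.mk y) ^ 2 = 1 := by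
    rw [← QuotientGroup.mk_mul, ← QuotientGroup.mk_pow, hxy]
    exact (QuotientGroup.eq_one_iff z).2 hzN
  have hgen' : Subgroup.closure ({(QuotientGroup.mk x : G ⧸ N), QuotientGroup.mk y} :
      Set (G ⧸ N)) = ⊤ := by
    rw [eq_top_iff]
    intro q _
    obtain ⟨g, rfl⟩ := QuotientGroup.mk_surjective q
    have hg : g ∈ Subgroup.closure ({x, y, z} : Set G) := by
      rw [hgen]; exact Subgroup.mem_top g
    have hle : Subgroup.closure ({x, y, z} : Set G) ≤
        (Subgroup.closure ({(QuotientGroup.mk x : G ⧸ N), QuotientGroup.mk y} :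
          Set (G ⧸ N))).comap (QuotientGroup.mk' N) := by
      rw [Subgroup.closure_le]
      intro w hw
      rw [SetLike.mem_coe, Subgroup.mem_comap]
      rcases hw with rfl | rfl | hw
      · exact Subgroup.subset_closure (Set.mem_insert _ _)
      · exact Subgroup.subset_closure (Set.mem_insert_of_mem _ (Set.mem_singleton _))
      · rw [Set.mem_singleton_iff] at hw
        rw [hw]
        have : (QuotientGroup.mk' N) z = 1 := (QuotientGroup.eq_one_iff z).2 hzN
        rw [this]; exact Subgroup.one_mem _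
    exact hle hg
  obtain ⟨hfQ, hcQ⟩ := Cfsg.Agent.Lib.Helper18.A5Pres.card_le_sixty _ _ ha hb hab hgen'
  have hfG : Finite G :=
    Finite.of_equiv _ (Subgroup.groupEquivQuotientProdSubgroup (s := N)).symm
  refine ⟨hfG, ?_⟩
  rw [Subgroup.card_eq_card_quotient_mul_card_subgroup N]
  calc Nat.card (G ⧸ N) * Nat.card N ≤ 60 * 2 := Nat.mul_le_mul hcQ hcN.1
    _ = 120 := by norm_num

/-- Elements `x, y, z` of a group satisfying the relations define a homomorphism from the
presented group. -/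
theorem exists_hom {G : Type*} [Group G] (x y z : G) (hx : x ^ 3 = 1) (hy : y ^ 5 = 1)
    (hz : z ^ 2 = 1) (hzx : z * x = x * z) (hzy : z * y = y * z) (hxy : (x * y) ^ 2 = z) :
    ∃ f : PresentedGroup rels →* G, f (PresentedGroup.of 0) = x ∧ f (PresentedGroup.of 1) = y ∧
      f (PresentedGroup.of 2) = z := by
  have hlift : ∀ r ∈ rels, FreeGroup.lift ![x, y, z] r = 1 := by
    intro r hr
    rcases hr with rfl | rfl | rfl | rfl | rfl | rfl
    · rw [map_pow, FreeGroup.lift_apply_of]; exact hx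
    · rw [map_pow, FreeGroup.lift_apply_of]; exact hy
    · rw [map_pow, FreeGroup.lift_apply_of]; exact hz
    · rw [map_mul, map_mul, map_mul, map_inv, map_inv, FreeGroup.lift_apply_of,
        FreeGroup.lift_apply_of]
      show z⁻¹ * x * z * x⁻¹ = 1
      rw [mul_assoc z⁻¹ x z, ← hzx, inv_mul_cancel_left, mul_inv_cancel]
    · rw [map_mul, map_mul, map_mul, map_inv, map_inv, FreeGroup.lift_apply_of,
        FreeGroup.lift_apply_of]
      show z⁻¹ * y * z * y⁻¹ = 1
      rw [mul_assoc z⁻¹ y z, ← hzy, inv_mul_cancel_left, mul_inv_cancel]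
    · rw [map_mul, map_pow, map_mul, map_inv, FreeGroup.lift_apply_of, FreeGroup.lift_apply_of,
        FreeGroup.lift_apply_of]
      show (x * y) ^ 2 * z⁻¹ = 1
      rw [hxy, mul_inv_cancel]
  exact ⟨PresentedGroup.toGroup hlift, PresentedGroup.toGroup.of hlift,
    PresentedGroup.toGroup.of hlift, PresentedGroup.toGroup.of hlift⟩

theorem pres_rel :
    (PresentedGroup.of (0 : Fin 3) : PresentedGroup rels) ^ 3 = 1 ∧
    (PresentedGroup.of (1 : Fin 3) : PresentedGroup rels) ^ 5 = 1 ∧
    (PresentedGroup.of (2 : Fin 3) : PresentedGroup rels) ^ 2 = 1 ∧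
    (PresentedGroup.of (2 : Fin 3) : PresentedGroup rels) * PresentedGroup.of 0 =
      PresentedGroup.of 0 * PresentedGroup.of 2 ∧
    (PresentedGroup.of (2 : Fin 3) : PresentedGroup rels) * PresentedGroup.of 1 =
      PresentedGroup.of 1 * PresentedGroup.of 2 ∧
    ((PresentedGroup.of (0 : Fin 3) : PresentedGroup rels) * PresentedGroup.of 1) ^ 2 =
      PresentedGroup.of 2 := by
  refine ⟨?_, ?_, ?_, ?_, ?_, ?_⟩
  · have h := PresentedGroup.one_of_mem (rels := rels) (x := FreeGroup.of (0 : Fin 3) ^ 3)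
      (by simp [rels])
    rw [map_pow] at h; exact h
  · have h := PresentedGroup.one_of_mem (rels := rels) (x := FreeGroup.of (1 : Fin 3) ^ 5)
      (by simp [rels])
    rw [map_pow] at h; exact h
  · have h := PresentedGroup.one_of_mem (rels := rels) (x := FreeGroup.of (2 : Fin 3) ^ 2)
      (by simp [rels])
    rw [map_pow] at h; exact h
  · have h := PresentedGroup.one_of_mem (rels := rels)
      (x := (FreeGroup.of (2 : Fin 3))⁻¹ * FreeGroup.of 0 * FreeGroup.of 2 *
        (FreeGroup.of (0 : Fin 3))⁻¹) (by simp [rels])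
    rw [map_mul, map_mul, map_mul, map_inv, map_inv] at h
    have h' : (PresentedGroup.of (2 : Fin 3) : PresentedGroup rels)⁻¹ * PresentedGroup.of 0 *
        PresentedGroup.of 2 * (PresentedGroup.of 0)⁻¹ = 1 := h
    have h2 := mul_eq_one_iff_eq_inv.1 h'
    rw [inv_inv, mul_assoc, inv_mul_eq_iff_eq_mul] at h2
    exact h2.symm
  · have h := PresentedGroup.one_of_mem (rels := rels)
      (x := (FreeGroup.of (2 : Fin 3))⁻¹ * FreeGroup.of 1 * FreeGroup.of 2 *
        (FreeGroup.of (1 : Fin 3))⁻¹) (by simp [rels])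
    rw [map_mul, map_mul, map_mul, map_inv, map_inv] at h
    have h' : (PresentedGroup.of (2 : Fin 3) : PresentedGroup rels)⁻¹ * PresentedGroup.of 1 *
        PresentedGroup.of 2 * (PresentedGroup.of 1)⁻¹ = 1 := h
    have h2 := mul_eq_one_iff_eq_inv.1 h'
    rw [inv_inv, mul_assoc, inv_mul_eq_iff_eq_mul] at h2
    exact h2.symm
  · have h := PresentedGroup.one_of_mem (rels := rels)
      (x := (FreeGroup.of (0 : Fin 3) * FreeGroup.of 1) ^ 2 * (FreeGroup.of (2 : Fin 3))⁻¹)
      (by simp [rels])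
    rw [map_mul, map_pow, map_mul, map_inv] at h
    have h' : ((PresentedGroup.of (0 : Fin 3) : PresentedGroup rels) * PresentedGroup.of 1) ^ 2 *
        (PresentedGroup.of 2)⁻¹ = 1 := h
    have h2 := mul_eq_one_iff_eq_inv.1 h'
    rw [inv_inv] at h2
    exact h2

theorem pres_closure : Subgroup.closure ({PresentedGroup.of (0 : Fin 3), PresentedGroup.of 1,
    PresentedGroup.of 2} : Set (PresentedGroup rels)) = ⊤ := by
  have h := PresentedGroup.closure_range_of rels
  have hr : Set.range (PresentedGroup.of : Fin 3 → PresentedGroup rels) =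
      {PresentedGroup.of 0, PresentedGroup.of 1, PresentedGroup.of 2} := by
    ext w
    constructor
    · rintro ⟨i, rfl⟩
      fin_cases i
      · left; rfl
      · right; left; rfl
      · right; right; rfl
    · rintro (rfl | rfl | rfl)
      · exact ⟨0, rfl⟩
      · exact ⟨1, rfl⟩
      · exact ⟨2, rfl⟩
  rw [hr] at h; exact h

theorem pres_card : Finite (PresentedGroup rels) ∧ Nat.card (PresentedGroup rels) ≤ 120 := by
  obtain ⟨h1, h2, h3, h4, h5, h6⟩ := pres_rel
  exact card_le_120 _ _ _ h1 h2 h3 h4 h5 h6 pres_closure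

/-- A group with at least 120 elements generated by `x, y, z` satisfying the relations is
isomorphic to the presented group. -/
theorem equiv_of_gens {G : Type*} [Group G] (hG : 120 ≤ Nat.card G) (x y z : G)
    (hx : x ^ 3 = 1) (hy : y ^ 5 = 1)
    (hz : z ^ 2 = 1) (hzx : z * x = x * z) (hzy : z * y = y * z) (hxy : (x * y) ^ 2 = z)
    (hgen : Subgroup.closure ({x, y, z} : Set G) = ⊤) :
    ∃ f : PresentedGroup rels ≃* G, f (PresentedGroup.of 0) = x ∧ f (PresentedGroup.of 1) = y ∧
      f (PresentedGroup.of 2) = z := by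
  obtain ⟨f, f0, f1, f2⟩ := exists_hom x y z hx hy hz hzx hzy hxy
  obtain ⟨hfin, hcard⟩ := pres_card
  have hsurj : Function.Surjective f := by
    rw [← MonoidHom.range_eq_top, eq_top_iff, ← hgen, Subgroup.closure_le]
    intro w hw
    rcases hw with rfl | rfl | hw
    · exact ⟨_, f0⟩
    · exact ⟨_, f1⟩
    · rw [Set.mem_singleton_iff] at hw
      rw [hw]; exact ⟨_, f2⟩
  have hbij : Function.Bijective f := hsurj.bijective_of_nat_card_le (hcard.trans hG)
  exact ⟨MulEquiv.ofBijective f hbij, f0, f1, f2⟩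

/-- The upper unitriangular generator of `SL(2,5)`. -/
def mT : SpecialLinearGroup (Fin 2) (ZMod 5) :=
  SpecialLinearGroup.transvection (show (0 : Fin 2) ≠ 1 by decide) 1

/-- The lower unitriangular generator of `SL(2,5)`. -/
def mU : SpecialLinearGroup (Fin 2) (ZMod 5) :=
  SpecialLinearGroup.transvection (show (1 : Fin 2) ≠ 0 by decide) 1

/-- An element of order 3 of `SL(2,5)`. -/
def mX : SpecialLinearGroup (Fin 2) (ZMod 5) := mT ^ 4 * mU * mT ^ 3

/-- An element of order 5 of `SL(2,5)`. -/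
def mY : SpecialLinearGroup (Fin 2) (ZMod 5) := mT

/-- The central involution of `SL(2,5)`. -/
def mZ : SpecialLinearGroup (Fin 2) (ZMod 5) := (mX * mY) ^ 2

theorem mX3 : mX ^ 3 = 1 := by decide
theorem mY5 : mY ^ 5 = 1 := by decide
theorem mZ2 : mZ ^ 2 = 1 := by decide
theorem mZX : mZ * mX = mX * mZ := by decide
theorem mZY : mZ * mY = mY * mZ := by decide
theorem mZ_ne : mZ ≠ 1 := by decide
theorem mU_eq : mU = mT * mX * mT ^ 2 := by decide

theorem transv_mem (R : Subgroup (SpecialLinearGroup (Fin 2) (ZMod 5))) {i j : Fin 2}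
    (h : i ≠ j) (h1 : SpecialLinearGroup.transvection h (1 : ZMod 5) ∈ R) (c : ZMod 5) :
    SpecialLinearGroup.transvection h c ∈ R := by
  have key : ∀ n : ℕ, SpecialLinearGroup.transvection h ((n : ℕ) : ZMod 5) ∈ R := by
    intro n
    induction n with
    | zero =>
      rw [Nat.cast_zero, SpecialLinearGroup.transvection_coeff_zero]; exact R.one_mem
    | succ k ih =>
      rw [Nat.cast_succ, SpecialLinearGroup.transvection_add]; exact R.mul_mem ih h1
  have := key c.val
  rwa [ZMod.natCast_zmod_val] at this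

theorem sl_closure : Subgroup.closure ({mX, mY, mZ} :
    Set (SpecialLinearGroup (Fin 2) (ZMod 5))) = ⊤ := by
  have : Fact (Nat.Prime 5) := ⟨by norm_num⟩
  obtain ⟨R, hR⟩ : ∃ R : Subgroup (SpecialLinearGroup (Fin 2) (ZMod 5)),
      R = Subgroup.closure ({mX, mY, mZ} : Set _) := ⟨_, rfl⟩
  rw [← hR]
  have hX : mX ∈ R := by rw [hR]; exact Subgroup.subset_closure (Set.mem_insert _ _)
  have hT : mT ∈ R := by
    rw [hR]
    exact Subgroup.subset_closure (Set.mem_insert_of_mem _ (Set.mem_insert _ _))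
  have hU : mU ∈ R := by
    rw [mU_eq]; exact R.mul_mem (R.mul_mem hT hX) (R.pow_mem hT 2)
  rw [eq_top_iff]
  intro A _
  refine Matrix.SL2.transvection_induction (fun A => A ∈ R) ?_ ?_ A
  · intro i j h c
    fin_cases i <;> fin_cases j
    · exact absurd rfl h
    · exact transv_mem R h hT c
    · exact transv_mem R h hU c
    · exact absurd rfl h
  · intro A B hA hB
    exact R.mul_mem hA hB

theorem card_sl : Nat.card (SpecialLinearGroup (Fin 2) (ZMod 5)) = 120 := by
  have : Fact (Nat.Prime 5) := ⟨by norm_num⟩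
  rw [Cfsg.Agent.S2301.card_SL2, ZMod.card]
  norm_num

/-- `SL(2,5)` has the presentation `rels`. -/
theorem pres_equiv : ∃ f : PresentedGroup rels ≃* SpecialLinearGroup (Fin 2) (ZMod 5),
    f (PresentedGroup.of 0) = mX ∧ f (PresentedGroup.of 1) = mY ∧
      f (PresentedGroup.of 2) = mZ :=
  equiv_of_gens (by rw [card_sl]) mX mY mZ mX3 mY5 mZ2 mZX mZY rfl sl_closure

end Cfsg.Agent.Lib.Helper18.SL25Pres
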